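import Mathlib

/-!
# Gluing finite extensions at the primes over a nonzerodivisor
-/

set_option autoImplicit false

universe u

open scoped TensorProduct
open Polynomial

namespace Groth.Agent.CycGlue.Curve

variable {A : Type u} [CommRing A] {t : A} {r : ℕ} {q : Fin r → Ideal A} [∀ i, (q i).IsPrime]
  {B : Fin r → Type u} [∀ i, CommRing (B i)] [∀ i, Algebra A (B i)]

/-- The local algebra with `t` inverted. -/
abbrev Bt (t : A) (B : Fin r → Type u) [∀ i, CommRing (B i)] [∀ i, Algebra A (B i)] (i : Fin r) :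
    Type u :=
  Localization.Away (algebraMap A (B i) t)

/-- Restriction of functions on `t ≠ 0`. -/
noncomputable def ν (t : A) (B : Fin r → Type u) [∀ i, CommRing (B i)] [∀ i, Algebra A (B i)]
    (i : Fin r) : Localization.Away t →ₐ[A] Bt t B i :=
  IsLocalization.liftAlgHom (M := Submonoid.powers t) (f := Algebra.ofId A (Bt t B i)) (by
    rintro ⟨_, n, rfl⟩
    show IsUnit (algebraMap A (Bt t B i) (t ^ n))
    rw [map_pow, IsScalarTower.algebraMap_apply A (B i) (Bt t B i)]
    exact (IsLocalization.Away.algebraMap_isUnit _).pow n)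

/-- The functions on `t ≠ 0` lying in all local algebras. -/
noncomputable def C₀ (t : A) (B : Fin r → Type u) [∀ i, CommRing (B i)] [∀ i, Algebra A (B i)] :
    Subalgebra A (Localization.Away t) :=
  ⨅ i, (IsScalarTower.toAlgHom A (B i) (Bt t B i)).range.comap (ν t B i)

lemma mem_C₀ {z : Localization.Away t} :
    z ∈ C₀ t B ↔ ∀ i, ∃ b : B i, algebraMap (B i) (Bt t B i) b = ν t B i z := by
  simp [C₀, Algebra.mem_iInf]

variable [∀ i, Algebra (Localization.AtPrime (q i)) (B i)]
  [∀ i, IsScalarTower A (Localization.AtPrime (q i)) (B i)]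

variable (t q B) in
/-- The hypotheses. -/
structure Data (n : ℕ) : Prop where
  nzd : t ∈ nonZeroDivisors A
  mem : ∀ i, t ∈ q i
  inj : Function.Injective q
  minimal : ∀ i (p : Ideal A), p.IsPrime → t ∈ p → p ≤ q i → p = q i
  injective : ∀ i, Function.Injective (algebraMap (Localization.AtPrime (q i)) (B i))
  finite : ∀ i, Module.Finite (Localization.AtPrime (q i)) (B i)
  regular : ∀ i, IsSMulRegular (B i) t
  coker : ∀ i (b : B i), ∃ (a s : A), s ∉ q i ∧ s • t ^ n • b = algebraMap A (B i) a

variable {n : ℕ}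

lemma Data.toBt_injective (d : Data t q B n) (i : Fin r) :
    Function.Injective (algebraMap (B i) (Bt t B i)) := by
  rw [injective_iff_map_eq_zero]
  intro b hb
  rw [IsLocalization.map_eq_zero_iff (Submonoid.powers (algebraMap A (B i) t))] at hb
  obtain ⟨⟨_, M, rfl⟩, hM⟩ := hb
  refine (d.regular i).pow M (?_ : t ^ M • b = t ^ M • (0 : B i))
  rw [smul_zero, Algebra.smul_def, map_pow]
  exact hM

/-- The kernel of the restriction. -/
theorem Data.exists_smul_eq_zero (d : Data t q B n) (i : Fin r) {z : Localization.Away t}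
    (hz : ν t B i z = 0) : ∃ s ∉ q i, s • z = 0 := by
  obtain ⟨N, a, ha⟩ := IsLocalization.Away.surj t z
  have e := congrArg (ν t B i) ha
  rw [map_mul, hz, zero_mul, AlgHom.commutes, eq_comm,
    IsScalarTower.algebraMap_apply A (B i) (Bt t B i),
    map_eq_zero_iff _ (d.toBt_injective i),
    IsScalarTower.algebraMap_apply A (Localization.AtPrime (q i)) (B i),
    map_eq_zero_iff _ (d.injective i), IsLocalization.map_eq_zero_iff (q i).primeCompl] at e
  obtain ⟨⟨s, hs⟩, h0⟩ := e
  refine ⟨s, hs, ?_⟩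
  have hu : IsUnit (algebraMap A (Localization.Away t) t ^ N) :=
    (IsLocalization.Away.algebraMap_isUnit _).pow _
  rw [← hu.mul_left_eq_zero, Algebra.smul_def, mul_assoc, ha, ← map_mul]
  exact (congrArg (algebraMap A _) h0).trans (map_zero _)

/-- An element outside `q i` which is divisible by a power of `t` at the other primes. -/
theorem Data.exists_divisor (d : Data t q B n) (i l : Fin r) (hl : l ≠ i) (N : ℕ) :
    ∃ (s w e : A), s ∉ q i ∧ w ∉ q l ∧ w * s = t ^ N * e := by
  have hnle : ¬ q l ≤ q i := fun hle => hl (d.inj (d.minimal i (q l) inferInstance (d.mem l) hle))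
  obtain ⟨e₀, he₀, he₀'⟩ := SetLike.not_le_iff_exists.mp hnle
  let L := Localization.AtPrime (q l)
  have hrad : algebraMap A L e₀ ∈ (Ideal.span {algebraMap A L (t ^ N)}).radical := by
    rw [Ideal.radical_eq_sInf, Ideal.mem_sInf]
    rintro P ⟨hP, hPp⟩
    have hp : (P.comap (algebraMap A L)).IsPrime := Ideal.IsPrime.comap _
    have hle : P.comap (algebraMap A L) ≤ q l := fun x hx => by
      by_contra hxq
      exact hPp.ne_top (Ideal.eq_top_of_isUnit_mem _ hx
        (IsLocalization.map_units L (⟨x, hxq⟩ : (q l).primeCompl)))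
    have htN : algebraMap A L (t ^ N) ∈ P := hP (Ideal.mem_span_singleton_self _)
    have ht : t ∈ P.comap (algebraMap A L) := hp.mem_of_pow_mem N (Ideal.mem_comap.mpr htN)
    rw [← d.minimal l _ hp ht hle] at he₀
    exact he₀
  obtain ⟨M, hM⟩ := hrad
  rw [Ideal.mem_span_singleton, ← map_pow] at hM
  obtain ⟨γ, hγ⟩ := hM
  obtain ⟨⟨g, w⟩, hg⟩ := IsLocalization.surj (q l).primeCompl γ
  have e1 : algebraMap A L (e₀ ^ M * w) = algebraMap A L (t ^ N * g) := by
    rw [map_mul, map_mul, hγ, mul_assoc, hg]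
  obtain ⟨⟨v, hv⟩, e2⟩ := (IsLocalization.eq_iff_exists (q l).primeCompl L).mp e1
  exact ⟨e₀ ^ M, v * w, v * g, fun e => he₀' (Ideal.IsPrime.mem_of_pow_mem inferInstance M e),
    Ideal.IsPrime.mul_notMem inferInstance hv w.2, by linear_combination e2⟩

/-- Local elements lift, up to denominators, to integral functions on `t ≠ 0`. -/
theorem Data.exists_lift (d : Data t q B n) (i : Fin r) (b : B i) :
    ∃ (s : A) (z : Localization.Away t), s ∉ q i ∧ z ∈ C₀ t B ∧ IsIntegral A z ∧
      ν t B i z = algebraMap (B i) (Bt t B i) (s • b) := by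
  classical
  have := d.finite i
  obtain ⟨⟨σ', hσ'⟩, hint⟩ := IsIntegral.exists_multiple_integral_of_isLocalization
    (q i).primeCompl b (Algebra.IsIntegral.isIntegral (R := Localization.AtPrime (q i)) b)
  obtain ⟨a, σ, hσ, ha⟩ := d.coker i b
  obtain ⟨P, hPm, hP⟩ := (show IsIntegral A (σ • σ' • b) from IsIntegral.smul σ hint)
  let z₀ : Localization.Away t :=
    IsLocalization.mk' (Localization.Away t) (σ' * a) (⟨t ^ n, n, rfl⟩ : Submonoid.powers t)
  have hz₀ : t ^ n • z₀ = algebraMap A _ (σ' * a) := by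
    rw [Algebra.smul_def]
    exact IsLocalization.mk'_spec' (Localization.Away t) (σ' * a)
      (⟨t ^ n, n, rfl⟩ : Submonoid.powers t)
  have hu : IsUnit (algebraMap A (Bt t B i) (t ^ n)) := by
    rw [map_pow, IsScalarTower.algebraMap_apply A (B i) (Bt t B i)]
    exact (IsLocalization.Away.algebraMap_isUnit _).pow n
  have hνz₀ : ν t B i z₀ = algebraMap (B i) (Bt t B i) (σ • σ' • b) := by
    refine hu.mul_right_inj.mp ?_
    rw [← Algebra.smul_def, ← map_smul, hz₀, AlgHom.commutes,
      IsScalarTower.algebraMap_apply A (B i) (Bt t B i), IsScalarTower.algebraMap_apply A (B i)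
        (Bt t B i) (t ^ n), ← map_mul, map_mul _ σ' a, ← ha]
    congr 1
    simp only [Algebra.smul_def]
    ring
  have hP0 : ν t B i (aeval z₀ P) = 0 := by
    rw [← aeval_algHom_apply, hνz₀, ← IsScalarTower.toAlgHom_apply A (B i) (Bt t B i),
      aeval_algHom_apply, aeval_def, hP, map_zero]
  obtain ⟨s₁, hs₁, h0⟩ := d.exists_smul_eq_zero i hP0
  have hint₁ : IsIntegral A (s₁ • z₀) := by
    by_cases hdeg : P.natDegree = 0
    · rw [eq_one_of_monic_natDegree_zero hPm hdeg, map_one, Algebra.smul_def, mul_one] at h0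
      rw [Algebra.smul_def, h0, zero_mul]
      exact isIntegral_zero
    · refine ⟨P.scaleRoots s₁, (monic_scaleRoots_iff s₁).mpr hPm, ?_⟩
      rw [Algebra.smul_def, scaleRoots_eval₂_mul, ← aeval_def]
      obtain ⟨D, hD⟩ := Nat.exists_eq_succ_of_ne_zero hdeg
      rw [hD, pow_succ, mul_assoc, ← Algebra.smul_def, h0, mul_zero]
  choose s w e hs hw he using fun l (hl : l ≠ i) => d.exists_divisor i l hl n
  let s' : Fin r → A := fun l => if hl : l = i then 1 else s l hl
  have hs' : ∏ l, s' l ∉ q i := fun h => by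
    obtain ⟨l, -, hl⟩ := Ideal.IsPrime.prod_mem_iff.mp h
    by_cases h' : l = i
    · exact (inferInstance : (q i).IsPrime).one_notMem (by simpa [s', h'] using hl)
    · exact hs l h' (by simpa [s', h'] using hl)
  let S := ∏ l, s' l
  have hmain : ν t B i (S • s₁ • z₀) = algebraMap (B i) (Bt t B i) ((S * s₁ * σ * σ') • b) := by
    rw [map_smul, map_smul, hνz₀, mul_smul, mul_smul, mul_smul,
      ← IsScalarTower.toAlgHom_apply A (B i) (Bt t B i),
      ← IsScalarTower.toAlgHom_apply A (B i) (Bt t B i), map_smul _ S, map_smul _ s₁]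
  refine ⟨S * s₁ * σ * σ', S • s₁ • z₀, ?_, mem_C₀.mpr fun l => ?_, hint₁.smul S, hmain⟩
  · exact Ideal.IsPrime.mul_notMem inferInstance (Ideal.IsPrime.mul_notMem inferInstance
      (Ideal.IsPrime.mul_notMem inferInstance hs' hs₁) hσ) hσ'
  · by_cases hl : l = i
    · subst hl; exact ⟨_, hmain.symm⟩
    · obtain ⟨g, hg⟩ : s l hl ∣ S := by
        have := Finset.dvd_prod_of_mem s' (Finset.mem_univ l)
        simpa [S, s', hl] using this
      have hwu : IsUnit (algebraMap A (B l) (w l hl)) := by
        rw [IsScalarTower.algebraMap_apply A (Localization.AtPrime (q l)) (B l)]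
        exact (IsLocalization.map_units (Localization.AtPrime (q l))
          (⟨_, hw l hl⟩ : (q l).primeCompl)).map _
      obtain ⟨v, hv⟩ := hwu.exists_left_inv
      refine ⟨v * algebraMap A (B l) (e l hl * g * (s₁ * (σ' * a))), ?_⟩
      have h1 : (w l hl) • S • s₁ • z₀ =
          algebraMap A (Localization.Away t) (e l hl * g * (s₁ * (σ' * a))) := by
        rw [hg, ← mul_smul, ← mul_assoc, he, ← mul_smul,
          show t ^ n * e l hl * g * s₁ = (e l hl * g * s₁) * t ^ n by ring, mul_smul, hz₀,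
          Algebra.smul_def, ← map_mul]
        congr 1
        ring
      have h2 := congrArg (ν t B l) h1
      rw [map_smul, AlgHom.commutes, Algebra.smul_def,
        IsScalarTower.algebraMap_apply A (B l) (Bt t B l),
        IsScalarTower.algebraMap_apply A (B l) (Bt t B l) (e l hl * g * _)] at h2
      rw [map_mul, ← h2, ← mul_assoc, ← map_mul, hv, map_one, one_mul]

/-- The projection to a local algebra. -/
theorem Data.exists_proj (d : Data t q B n) (i : Fin r) :
    ∃ π : C₀ t B →ₐ[A] B i, ∀ c : C₀ t B, algebraMap (B i) (Bt t B i) (π c) = ν t B i c := by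
  let ι := IsScalarTower.toAlgHom A (B i) (Bt t B i)
  have h : ∀ c : C₀ t B, (ν t B i).comp (C₀ t B).val c ∈ ι.range := fun c => by
    obtain ⟨b, hb⟩ := mem_C₀.mp c.2 i
    exact ⟨b, hb⟩
  let E := AlgEquiv.ofInjective ι (d.toBt_injective i)
  refine ⟨E.symm.toAlgHom.comp (((ν t B i).comp (C₀ t B).val).codRestrict ι.range h), fun c => ?_⟩
  exact congrArg Subtype.val (E.apply_symm_apply _)

/-- A subalgebra containing enough elements localizes to the local algebra. -/
theorem Data.exists_isLocalizedModule (d : Data t q B n) (C : Subalgebra A (Localization.Away t))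
    (hle : C ≤ C₀ t B) (i : Fin r) (G : Finset (B i))
    (hG : Submodule.span (Localization.AtPrime (q i)) (G : Set (B i)) = ⊤)
    (hgen : ∀ y ∈ G, ∃ s ∉ q i, ∃ c : C,
      ν t B i c = algebraMap (B i) (Bt t B i) (s • y)) :
    ∃ π : C →ₐ[A] B i, IsLocalizedModule (q i).primeCompl π.toLinearMap := by
  obtain ⟨π₀, hπ₀⟩ := d.exists_proj i
  have hinj := d.toBt_injective i
  let πh : C →ₐ[A] B i := π₀.comp (Subalgebra.inclusion hle)
  have hπ : ∀ c : C, algebraMap (B i) (Bt t B i) (πh c) = ν t B i c := fun c => hπ₀ _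
  refine ⟨πh, { map_units := fun s₀ => ?_, surj := fun b => ?_, exists_of_eq := fun {c c'} e => ?_ }⟩
  · have h : IsUnit (algebraMap A (B i) s₀) := by
      rw [IsScalarTower.algebraMap_apply A (Localization.AtPrime (q i)) (B i)]
      exact (IsLocalization.map_units (Localization.AtPrime (q i)) s₀).map _
    rw [Module.End.isUnit_iff]
    refine ⟨fun x x' e => ?_, fun y => ?_⟩
    · have e' : (s₀ : A) • x = (s₀ : A) • x' := e
      rw [Algebra.smul_def, Algebra.smul_def] at e'
      exact h.mul_left_cancel e'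
    · obtain ⟨v, hv⟩ := h.exists_right_inv
      exact ⟨v * y, show (s₀ : A) • (v * y) = y by rw [Algebra.smul_def, ← mul_assoc, hv, one_mul]⟩
  · suffices ∃ s₀ ∉ q i, ∃ c : C, s₀ • b = πh c by
      obtain ⟨s₀, h₀, c, hc⟩ := this
      exact ⟨⟨c, ⟨s₀, h₀⟩⟩, hc⟩
    have hb : b ∈ Submodule.span (Localization.AtPrime (q i)) (G : Set (B i)) := by
      rw [hG]; trivial
    induction hb using Submodule.span_induction with
    | mem y hy =>
      obtain ⟨s₀, h₀, c, hc⟩ := hgen y hy
      exact ⟨s₀, h₀, c, hinj (hc.symm.trans (hπ c).symm)⟩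
    | zero => exact ⟨1, (inferInstance : (q i).IsPrime).one_notMem, 0, by simp⟩
    | add x y _ _ hx hy =>
      obtain ⟨u, hu, cx, ex⟩ := hx
      obtain ⟨v, hv, cy, ey⟩ := hy
      refine ⟨u * v, Ideal.IsPrime.mul_notMem inferInstance hu hv, v • cx + u • cy, ?_⟩
      rw [map_add, map_smul, map_smul, ← ex, ← ey, smul_add, mul_smul, mul_smul, smul_comm u v]
    | smul α y _ hy =>
      obtain ⟨u, hu, cy, ey⟩ := hy
      obtain ⟨⟨x, v⟩, hxv⟩ := IsLocalization.surj (q i).primeCompl α
      refine ⟨v * u, Ideal.IsPrime.mul_notMem inferInstance v.2 hu, x • cy, ?_⟩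
      rw [map_smul, ← ey, Algebra.smul_def α y, Algebra.smul_def (v * u : A), Algebra.smul_def x,
        Algebra.smul_def u, map_mul, IsScalarTower.algebraMap_apply A (Localization.AtPrime (q i))
          (B i) x, ← hxv, map_mul, ← IsScalarTower.algebraMap_apply]
      ring
  · have e0 : ν t B i ((c : Localization.Away t) - c') = 0 := by
      rw [map_sub, ← hπ c, ← hπ c', sub_eq_zero]
      exact congrArg _ e
    obtain ⟨s₀, h₀, h1⟩ := d.exists_smul_eq_zero i e0
    refine ⟨⟨s₀, h₀⟩, sub_eq_zero.mp ?_⟩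
    show s₀ • c - s₀ • c' = 0
    rw [← smul_sub]
    exact Subtype.ext h1

/-- A finite extension with prescribed localizations. -/
theorem Data.exists_glue (d : Data t q B n) :
    ∃ C : Subalgebra A (Localization.Away t), (Subalgebra.toSubmodule C).FG ∧
      (∃ N : ℕ, ∀ c ∈ C, t ^ N • c ∈ LinearMap.range (Algebra.linearMap A (Localization.Away t))) ∧
      ∀ i, ∃ π : C →ₐ[A] B i, IsLocalizedModule (q i).primeCompl π.toLinearMap := by
  classical
  have := d.finite
  choose G hG using fun i => (Module.Finite.fg_top (R := Localization.AtPrime (q i)) (M := B i))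
  choose s z hs hz hzint hzν using fun i => fun b => d.exists_lift i b
  let Z : Finset (Localization.Away t) := Finset.univ.biUnion fun i => (G i).image (z i)
  have hZ : ∀ y ∈ (Z : Set (Localization.Away t)), y ∈ C₀ t B ∧ IsIntegral A y := fun y hy => by
    obtain ⟨i, -, hy⟩ := Finset.mem_biUnion.mp hy
    obtain ⟨b, -, rfl⟩ := Finset.mem_image.mp hy
    exact ⟨hz i b, hzint i b⟩
  let C : Subalgebra A (Localization.Away t) := Algebra.adjoin A Z
  have hfg : (Subalgebra.toSubmodule C).FG :=
    fg_adjoin_of_finite Z.finite_toSet fun y hy => (hZ y hy).2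
  have hle : C ≤ C₀ t B := Algebra.adjoin_le fun y hy => (hZ y hy).1
  refine ⟨C, hfg, ?_, fun i => ?_⟩
  · obtain ⟨T, hT⟩ := hfg
    choose N a ha using fun y : Localization.Away t => IsLocalization.Away.surj t y
    refine ⟨T.sup N, fun c hc => ?_⟩
    have hc' : c ∈ Submodule.span A (T : Set (Localization.Away t)) := by rw [hT]; exact hc
    refine (Submodule.span_le (p := (LinearMap.range (Algebra.linearMap A (Localization.Away t))).comap
      (LinearMap.lsmul A (Localization.Away t) (t ^ T.sup N)))).mpr (fun y hy => ?_) hc'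
    obtain ⟨g, hg⟩ := pow_dvd_pow t (Finset.le_sup (f := N) hy)
    refine ⟨g * a y, ?_⟩
    show algebraMap A _ (g * a y) = t ^ T.sup N • y
    rw [hg, map_mul, ← ha, Algebra.smul_def, map_mul, map_pow]
    ring
  · exact d.exists_isLocalizedModule C hle i (G i) (hG i) fun y hy =>
      ⟨s i y, hs i y, ⟨z i y, Algebra.subset_adjoin (Finset.mem_biUnion.mpr
        ⟨i, Finset.mem_univ i, Finset.mem_image_of_mem (z i) hy⟩)⟩, hzν i y⟩

/-- Base change along a localization map. -/
theorem nonempty_algEquiv {C : Type u} [CommRing C] [Algebra A C] (i : Fin r) (π : C →ₐ[A] B i)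
    [IsLocalizedModule (q i).primeCompl π.toLinearMap] :
    Nonempty (Localization.AtPrime (q i) ⊗[A] C ≃ₐ[Localization.AtPrime (q i)] B i) := by
  have hbc : IsBaseChange (Localization.AtPrime (q i)) π.toLinearMap :=
    IsLocalizedModule.isBaseChange (q i).primeCompl _ _
  let φ : Localization.AtPrime (q i) ⊗[A] C →ₐ[Localization.AtPrime (q i)] B i :=
    Algebra.TensorProduct.lift (Algebra.ofId _ _) π fun _ _ => mul_comm _ _
  have hφ : ∀ z, φ z = hbc.equiv z := fun z => by
    induction z using TensorProduct.induction_on with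
    | zero => simp
    | add a b ha hb => simp [ha, hb]
    | tmul a c =>
      rw [hbc.equiv_tmul, Algebra.smul_def]
      rfl
  exact ⟨AlgEquiv.ofBijective φ (by
    rw [show (φ : _ → B i) = hbc.equiv from funext hφ]
    exact hbc.equiv.bijective)⟩

/-- In dimension two a prime other than the maximal one is minimal over a nonzerodivisor in it. -/
theorem eq_of_le_of_dim_two {R : Type u} [CommRing R] [IsLocalRing R] (hR : ringKrullDim R = 2)
    {t : R} (ht : t ∈ nonZeroDivisors R) {p q : Ideal R} [hp : p.IsPrime] [hq : q.IsPrime]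
    (htp : t ∈ p) (hle : p ≤ q) (hqm : q ≠ IsLocalRing.maximalIdeal R) : p = q := by
  by_contra hne
  obtain ⟨p₀, hp₀, hp₀le⟩ := Ideal.exists_minimalPrimes_le (bot_le : (⊥ : Ideal R) ≤ p)
  have hp₀p : p₀.IsPrime := Ideal.minimalPrimes_isPrime hp₀
  have h01 : p₀ < p := lt_of_le_of_ne hp₀le fun e => Set.disjoint_left.mp
    (Ideal.disjoint_nonZeroDivisors_of_mem_minimalPrimes hp₀) (e ▸ htp) ht
  have h23 : q < IsLocalRing.maximalIdeal R :=
    lt_of_le_of_ne (IsLocalRing.le_maximalIdeal hq.ne_top) hqm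
  let s : LTSeries (PrimeSpectrum R) :=
    { length := 3
      toFun := ![⟨p₀, hp₀p⟩, ⟨p, hp⟩, ⟨q, hq⟩, IsLocalRing.closedPoint R]
      step := fun i => by
        fin_cases i
        · exact h01
        · exact lt_of_le_of_ne hle hne
        · exact h23 }
  have h3 : (3 : WithBot ℕ∞) ≤ ringKrullDim R := Order.LTSeries.length_le_krullDim s
  rw [hR] at h3
  exact absurd h3 (by decide)

end Groth.Agent.CycGlue.Curve
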