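import Groth.Agent.CycGlue.TameProd
import Groth.Agent.CycDetLib.Span
import Mathlib.LinearAlgebra.TensorProduct.RightExactness
import Mathlib.RingTheory.LocalRing.Length
import Mathlib.RingTheory.Flat.FaithfullyFlat.Algebra

/-!
# Norms and lengths under a base change
-/

set_option autoImplicit false
set_option linter.style.haveILetI false
set_option linter.unusedSectionVars false

universe u

open IsLocalRing
open scoped TensorProduct

namespace Groth.Agent.CycGlue.Tame

open Groth.Agent.LenLib

/-- The length of a module at a point. -/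
noncomputable abbrev lenAt {B : Type u} [CommRing B] (q : MaximalSpectrum B) (M : Type u) [AddCommGroup M]
    [Module B M] : ℕ∞ :=
  Module.length (Localization.AtPrime q.asIdeal) (LocalizedModule q.asIdeal.primeCompl M)

section det

variable {R : Type u} [CommRing R] [IsLocalRing R] {B : Type u} [CommRing B] [Algebra R B] [Module.Finite R B]
  {C : Type u} [CommRing C] [Algebra B C] [Algebra (ResidueField R) C] [Algebra R C] [IsScalarTower R B C]
  [IsScalarTower R (ResidueField R) C] [Fintype (MaximalSpectrum B)]

/-- The determinant of a multiplication is the product of the norms of the residues. -/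
theorem det_smul_eq_prod_nrm (hsurj : Function.Surjective (algebraMap B C)) (b : B) (M : Type u)
    [AddCommGroup M] [Module C M] [Module (ResidueField R) M] [IsScalarTower (ResidueField R) C M]
    [iB : Module B M] [iT : IsScalarTower B C M] [iF : Module.Finite (ResidueField R) M]
    (hM : IsFiniteLength C M) :
    LinearMap.det ((LinearMap.lsmul C M (algebraMap B C b)).restrictScalars (ResidueField R)) =
      ∏ q : MaximalSpectrum B,
        nrm R q (residue _ (algebraMap B (Localization.AtPrime q.asIdeal) b)) ^ (lenAt q M).toNat ∧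
    ∀ q : MaximalSpectrum B, lenAt q M ≠ ⊤ := by
  classical
  rename_i iκ iκC
  revert iκ iκC iB iT iF
  induction hM with
  | @of_subsingleton M _ _ _ =>
    intro _ _ _ _ _
    have h0 : ∀ q : MaximalSpectrum B, lenAt q M = 0 := fun q => by
      have : Subsingleton (LocalizedModule q.asIdeal.primeCompl M) :=
        LocalizedModule.subsingleton_iff.mpr fun x => ⟨1, one_mem _, Subsingleton.elim _ _⟩
      exact Module.length_eq_zero_iff.mpr inferInstance
    simp only [h0, ENat.toNat_zero, pow_zero, Finset.prod_const_one]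
    exact ⟨LinearMap.det_eq_one_of_subsingleton _, fun _ => ENat.zero_ne_top⟩
  | @of_simple_quotient M _ _ N _ hN ih =>
    intro _ _ _ _ _
    obtain ⟨n, hn, ⟨e⟩⟩ := isSimpleModule_iff_quot_maximal.mp ‹IsSimpleModule C (M ⧸ N)›
    haveI := hn
    let q₀ : MaximalSpectrum B := ⟨n.comap (algebraMap B C), Ideal.comap_isMaximal_of_surjective _ hsurj⟩
    haveI : Module.Finite (ResidueField R) (N.restrictScalars (ResidueField R)) := inferInstance
    haveI : Module.Finite (ResidueField R) N :=
      ‹Module.Finite (ResidueField R) (N.restrictScalars (ResidueField R))›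
    obtain ⟨ih, ihfin⟩ := ih
    haveI := isLocalHom_localization (A := R) q₀
    let κ₀ := ResidueField (Localization.AtPrime q₀.asIdeal)
    let eB : (C ⧸ n) ≃ₗ[B] B ⧸ q₀.asIdeal :=
      ((LinearMap.quotKerEquivOfSurjective ((Submodule.mkQ n).restrictScalars B ∘ₗ Algebra.linearMap B C)
        ((Submodule.mkQ_surjective n).comp hsurj)).symm ≪≫ₗ Submodule.quotEquivOfEq _ _ (by
          ext x
          simp only [LinearMap.mem_ker, LinearMap.comp_apply, LinearMap.restrictScalars_apply,
            Submodule.mkQ_apply, Submodule.Quotient.mk_eq_zero]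
          rfl))
    haveI := q₀.isMaximal
    let Φ : (M ⧸ N) ≃ₗ[B] κ₀ := e.restrictScalars B ≪≫ₗ eB ≪≫ₗ LinearEquiv.ofBijective
      (IsScalarTower.toAlgHom B (B ⧸ q₀.asIdeal) κ₀).toLinearMap
      (Ideal.bijective_algebraMap_quotient_residueField q₀.asIdeal)
    have hres : ∀ r : R, algebraMap (ResidueField R) κ₀ (residue R r) = algebraMap B κ₀ (algebraMap R B r) :=
      fun r => by
        rw [← IsScalarTower.algebraMap_apply R B κ₀]
        rfl
    let Ψ : (M ⧸ N) ≃ₗ[ResidueField R] κ₀ :=
      { Φ.toAddEquiv with
        map_smul' := fun c x => by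
          obtain ⟨r, rfl⟩ := IsLocalRing.residue_surjective c
          show Φ (residue R r • x) = residue R r • Φ x
          rw [← IsScalarTower.algebraMap_smul C (residue R r) x,
            show algebraMap (ResidueField R) C (residue R r) = algebraMap B C (algebraMap R B r) by
              rw [← IsScalarTower.algebraMap_apply R B C, IsScalarTower.algebraMap_apply R (ResidueField R) C]
              rfl,
            IsScalarTower.algebraMap_smul, map_smul, Algebra.smul_def (residue R r), hres, Algebra.smul_def] }
    have hloc : ∀ q : MaximalSpectrum B, lenAt q M = lenAt q N + if q = q₀ then 1 else 0 := fun q => by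
      rw [lenAt, lenAt, LenLib.length_localized_add q.asIdeal.primeCompl (N.subtype.restrictScalars B)
        (N.mkQ.restrictScalars B) N.injective_subtype N.mkQ_surjective
        (LinearMap.exact_subtype_mkQ N)]
      congr 1
      split_ifs with h
      · subst h; exact LenLib.length_localized_quotient_eq_one q₀.asIdeal (e.restrictScalars B ≪≫ₗ eB)
      · exact LenLib.length_localized_quotient_eq_zero q.asIdeal q₀.asIdeal (e.restrictScalars B ≪≫ₗ eB)
          fun hle => h (MaximalSpectrum.ext (q₀.isMaximal.eq_of_le q.isMaximal.ne_top hle).symm)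
    have hfinM : ∀ q : MaximalSpectrum B, lenAt q M ≠ ⊤ := fun q => by
      rw [hloc]
      exact WithTop.add_ne_top.mpr ⟨ihfin q, by split_ifs <;> first | exact ENat.one_ne_top | exact ENat.zero_ne_top⟩
    refine ⟨?_, hfinM⟩
    rw [LinearMap.det_eq_det_mul_det (N.restrictScalars (ResidueField R)) _ (fun x hx => N.smul_mem _ hx)]
    have h1 : LinearMap.det (((LinearMap.lsmul C M (algebraMap B C b)).restrictScalars (ResidueField R)).restrict
        (p := N.restrictScalars (ResidueField R)) (q := N.restrictScalars (ResidueField R))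
        (fun x hx => N.smul_mem _ hx)) =
        LinearMap.det ((LinearMap.lsmul C N (algebraMap B C b)).restrictScalars (ResidueField R)) := rfl
    rw [h1, ih]
    let Φ' : (M ⧸ N.restrictScalars (ResidueField R)) ≃ₗ[ResidueField R] κ₀ :=
      (Submodule.Quotient.restrictScalarsEquiv (ResidueField R) N) ≪≫ₗ Ψ
    have h2 : LinearMap.det ((N.restrictScalars (ResidueField R)).mapQ (N.restrictScalars (ResidueField R))
        ((LinearMap.lsmul C M (algebraMap B C b)).restrictScalars (ResidueField R))
          fun x hx => N.smul_mem _ hx) =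
        nrm R q₀ (residue _ (algebraMap B (Localization.AtPrime q₀.asIdeal) b)) := by
      rw [← LinearMap.det_conj _ Φ', nrm]
      show _ = Algebra.norm (ResidueField R) (residue _ (algebraMap B (Localization.AtPrime q₀.asIdeal) b))
      rw [Algebra.norm_apply]
      congr 1
      refine LinearMap.ext fun z => ?_
      obtain ⟨z', rfl⟩ := Φ'.surjective z
      obtain ⟨x, rfl⟩ := Submodule.Quotient.mk_surjective _ z'
      simp only [LinearMap.comp_apply, LinearEquiv.coe_coe, LinearEquiv.symm_apply_apply]
      show Φ (Submodule.Quotient.mk (algebraMap B C b • x)) = _ * Φ (Submodule.Quotient.mk x)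
      rw [IsScalarTower.algebraMap_smul, Submodule.Quotient.mk_smul, map_smul, Algebra.smul_def]
      rfl
    rw [h2]
    have hexp : ∀ q, (lenAt q M).toNat = (lenAt q N).toNat + if q = q₀ then 1 else 0 := fun q => by
      rw [hloc, ENat.toNat_add (ihfin q) (by split_ifs <;> simp)]
      split_ifs <;> simp
    simp only [hexp, pow_add, Finset.prod_mul_distrib, pow_ite, pow_one, pow_zero, Finset.prod_ite_eq',
      Finset.mem_univ, if_true]

end det

section baseChange

variable {A : Type u} [CommRing A] [IsLocalRing A] {A' : Type u} [CommRing A'] [IsLocalRing A'] [Algebra A A']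
  [IsLocalHom (algebraMap A A')] {B : Type u} [CommRing B] [Algebra A B] [Module.Finite A B]
  {V : Type u} [Field V] [Algebra A V] [Algebra (ResidueField A) V] [IsScalarTower A (ResidueField A) V]
  [Module.Finite (ResidueField A) V] (g : B →ₐ[A] V)

/-- The ideal cut out by an ideal of the base and a point. -/
noncomputable def cut (I : Ideal A') : Ideal (A' ⊗[A] B) :=
  I.map (algebraMap A' (A' ⊗[A] B)) ⊔
    (RingHom.ker g).map (Algebra.TensorProduct.includeRight : B →ₐ[A] A' ⊗[A] B)

/-- The projection onto a fibre. -/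
noncomputable def proj (I : Ideal A') : A' ⊗[A] B →ₐ[A'] (A' ⧸ I) ⊗[A] V :=
  Algebra.TensorProduct.map (Ideal.Quotient.mkₐ A' I) g

variable {g} (hg : Function.Surjective g)

include hg in
theorem proj_surjective (I : Ideal A') : Function.Surjective (proj g I) := fun z => by
  induction z using TensorProduct.induction_on with
  | zero => exact ⟨0, map_zero _⟩
  | add x y hx hy => obtain ⟨x, rfl⟩ := hx; obtain ⟨y, rfl⟩ := hy; exact ⟨x + y, map_add _ _ _⟩
  | tmul a v =>
    obtain ⟨a, rfl⟩ := Ideal.Quotient.mk_surjective a
    obtain ⟨b, rfl⟩ := hg v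
    exact ⟨a ⊗ₜ b, rfl⟩

include hg in
theorem ker_proj (I : Ideal A') : RingHom.ker (proj g I) = cut g I := by
  rw [proj, Algebra.TensorProduct.map_ker _ _ Ideal.Quotient.mk_surjective hg, cut,
    show RingHom.ker (Ideal.Quotient.mkₐ A' I) = I from Ideal.mk_ker]
  rfl

theorem mem_ker_of_mem {a : A} (ha : a ∈ maximalIdeal A) : algebraMap A B a ∈ RingHom.ker g := by
  rw [RingHom.mem_ker, AlgHom.commutes, IsScalarTower.algebraMap_apply A (ResidueField A) V,
    show algebraMap A (ResidueField A) a = residue A a from rfl, (residue_eq_zero_iff a).mpr ha, map_zero]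

variable (g) in
theorem cut_map_maximal : cut g ((maximalIdeal A).map (algebraMap A A')) =
    (RingHom.ker g).map (Algebra.TensorProduct.includeRight : B →ₐ[A] A' ⊗[A] B) := by
  refine le_antisymm (sup_le ?_ le_rfl) le_sup_right
  rw [Ideal.map_map, Ideal.map_le_iff_le_comap]
  intro a ha
  show algebraMap A' (A' ⊗[A] B) (algebraMap A A' a) ∈
    (RingHom.ker g).map (Algebra.TensorProduct.includeRight : B →ₐ[A] A' ⊗[A] B)
  rw [← IsScalarTower.algebraMap_apply A A' (A' ⊗[A] B),
    ← (Algebra.TensorProduct.includeRight : B →ₐ[A] A' ⊗[A] B).commutes]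
  exact Ideal.mem_map_of_mem (Algebra.TensorProduct.includeRight : B →ₐ[A] A' ⊗[A] B) (mem_ker_of_mem ha)

include hg in
/-- Lengths of fibres over larger ideals. -/
theorem lenAt_cut (n : MaximalSpectrum (A' ⊗[A] B)) (I : Ideal A')
    (hI : (maximalIdeal A).map (algebraMap A A') ≤ I) (hfin : Module.length A' (A' ⧸ I) ≠ ⊤) :
    lenAt n ((A' ⊗[A] B) ⧸ cut g I) =
      Module.length A' (A' ⧸ I) * lenAt n ((A' ⊗[A] B) ⧸ cut g (maximalIdeal A')) := by
  classical
  obtain ⟨d, hd⟩ := ENat.ne_top_iff_exists.mp hfin
  induction d using Nat.strong_induction_on generalizing I with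
  | _ d ih =>
    by_cases hIt : I = ⊤
    · subst hIt
      have h1 : cut g (⊤ : Ideal A') = ⊤ := top_le_iff.mp (by
        rw [cut, Ideal.map_top]; exact le_sup_left)
      have : Subsingleton ((A' ⊗[A] B) ⧸ cut g (⊤ : Ideal A')) := Submodule.Quotient.subsingleton_iff.mpr h1
      have : Subsingleton (LocalizedModule n.asIdeal.primeCompl ((A' ⊗[A] B) ⧸ cut g (⊤ : Ideal A'))) :=
        LocalizedModule.subsingleton_iff.mpr fun x => ⟨1, one_mem _, Subsingleton.elim _ _⟩
      have h2 : Subsingleton (A' ⧸ (⊤ : Ideal A')) := Submodule.Quotient.subsingleton_iff.mpr rfl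
      rw [lenAt, Module.length_eq_zero_iff.mpr inferInstance, Module.length_eq_zero_iff.mpr h2, zero_mul]
    have : Nontrivial (A' ⧸ I) := Ideal.Quotient.nontrivial_iff.mpr hIt
    obtain ⟨_, _⟩ := isFiniteLength_iff_isNoetherian_isArtinian.mp (Module.length_ne_top_iff.mp hfin)
    obtain ⟨s, hs0, hs⟩ := CycDetLib.exists_socle (R := A') (M := A' ⧸ I)
    obtain ⟨x, rfl⟩ := Submodule.Quotient.mk_surjective _ s
    have hxI : x ∉ I := fun h => hs0 ((Submodule.Quotient.mk_eq_zero _).mpr h)
    have hmx : ∀ r ∈ maximalIdeal A', r * x ∈ I := fun r hr => by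
      have := hs r hr
      rwa [← Submodule.Quotient.mk_smul, Submodule.Quotient.mk_eq_zero] at this
    let I' := I ⊔ Ideal.span {x}
    have hII' : I ≤ I' := le_sup_left
    let f : (A' ⧸ maximalIdeal A') →ₗ[A'] A' ⧸ I :=
      Submodule.mapQ _ _ (LinearMap.mulRight A' x) fun r hr => hmx r hr
    have hf : Function.Injective f := by
      rw [injective_iff_map_eq_zero]
      intro y hy
      obtain ⟨r, rfl⟩ := Submodule.Quotient.mk_surjective _ y
      rw [Submodule.mapQ_apply, Submodule.Quotient.mk_eq_zero] at hy
      rw [Submodule.Quotient.mk_eq_zero]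
      by_contra hr
      obtain ⟨v, hv⟩ := (IsLocalRing.notMem_maximalIdeal.mp hr).exists_left_inv
      exact hxI (by simpa [← mul_assoc, hv] using I.mul_mem_left v hy)
    have hexA : Function.Exact f (Submodule.factor hII') := fun y => by
      obtain ⟨y, rfl⟩ := Submodule.Quotient.mk_surjective _ y
      show (Submodule.Quotient.mk y : A' ⧸ I') = 0 ↔ _
      rw [Submodule.Quotient.mk_eq_zero]
      constructor
      · intro h
        obtain ⟨i, hi, w, hw, rfl⟩ := Submodule.mem_sup.mp h
        obtain ⟨c, rfl⟩ := Ideal.mem_span_singleton'.mp hw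
        refine ⟨Submodule.Quotient.mk c, ?_⟩
        rw [Submodule.mapQ_apply, Submodule.Quotient.eq, LinearMap.mulRight_apply]
        simpa using hi
      · rintro ⟨c, hc⟩
        obtain ⟨c, rfl⟩ := Submodule.Quotient.mk_surjective _ c
        rw [Submodule.mapQ_apply, Submodule.Quotient.eq, LinearMap.mulRight_apply] at hc
        have := I'.sub_mem (Submodule.mem_sup_right (S := I) (Ideal.mem_span_singleton'.mpr ⟨c, rfl⟩)) (hII' hc)
        rwa [sub_sub_cancel] at this
    have hlen := Module.length_eq_add_of_exact f _ hf (Submodule.factor_surjective hII') hexA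
    have hκ1 : Module.length A' (A' ⧸ maximalIdeal A') = 1 :=
      Module.length_eq_one_iff.mpr (isSimpleModule_iff_isCoatom.mpr (maximalIdeal.isMaximal A').out)
    rw [hκ1] at hlen
    have hfin' : Module.length A' (A' ⧸ I') ≠ ⊤ := fun h => hfin (by rw [hlen, h, add_top])
    obtain ⟨d', hd'⟩ := ENat.ne_top_iff_exists.mp hfin'
    have hdd : d' < d := by
      rw [← hd', ← hd] at hlen
      have h' : ((d : ℕ) : ℕ∞) = ((1 + d' : ℕ) : ℕ∞) := by push_cast; exact hlen
      have := Nat.cast_inj.mp h'
      omega
    have hI' := ih d' hdd I' (hI.trans hII') hfin' hd'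
    -- the sequence upstairs
    let X : A' ⊗[A] B := algebraMap A' (A' ⊗[A] B) x
    have hsub : cut g (maximalIdeal A') ≤ Submodule.comap (LinearMap.mulLeft (A' ⊗[A] B) X) (cut g I) := by
      refine sup_le ?_ fun z hz => Ideal.mul_mem_left _ _ (Submodule.mem_sup_right hz)
      rw [Ideal.map_le_iff_le_comap]
      intro r hr
      show X * algebraMap A' _ r ∈ cut g I
      rw [← map_mul, mul_comm]
      exact Submodule.mem_sup_left (Ideal.mem_map_of_mem _ (hmx r hr))
    let F : ((A' ⊗[A] B) ⧸ cut g (maximalIdeal A')) →ₗ[A' ⊗[A] B] (A' ⊗[A] B) ⧸ cut g I :=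
      Submodule.mapQ _ _ (LinearMap.mulLeft (A' ⊗[A] B) X) hsub
    have hκ : ∀ (P : Type u) [AddCommGroup P] [Module A' P] [Module A P] [IsScalarTower A A' P]
        (φ : (A' ⧸ maximalIdeal A') →ₗ[A'] P), Function.Injective φ → (∀ r ∈ (maximalIdeal A), ∀ y : P, r • y = 0) →
        Function.Injective (LinearMap.rTensor V (φ.restrictScalars A)) := by
      intro P _ _ _ _ φ hφ hkill
      letI : Module (ResidueField A) P := Module.IsTorsionBySet.module (I := maximalIdeal A)
        fun y r => hkill r.1 r.2 y
      haveI : IsScalarTower A (ResidueField A) P := ⟨fun a c y => by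
        obtain ⟨c, rfl⟩ := IsLocalRing.residue_surjective c
        show (a • c) • y = a • c • y
        exact mul_smul a c y⟩
      let φκ : ResidueField A' →ₗ[ResidueField A] P :=
        { toFun := φ
          map_add' := φ.map_add
          map_smul' := fun c y => by
            obtain ⟨c, rfl⟩ := IsLocalRing.residue_surjective c
            show φ (residue A c • y) = c • φ y
            rw [show residue A c • y = c • y from IsScalarTower.algebraMap_smul (ResidueField A) c y]
            exact LinearMap.map_smul_of_tower φ c y }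
      obtain ⟨ψ, hψ⟩ := LinearMap.exists_leftInverse_of_injective φκ (LinearMap.ker_eq_bot.mpr hφ)
      have hcomp : (ψ.restrictScalars A).comp (φ.restrictScalars A) = LinearMap.id :=
        LinearMap.ext fun y => LinearMap.congr_fun hψ y
      refine Function.LeftInverse.injective (g := LinearMap.rTensor V (ψ.restrictScalars A)) fun y => ?_
      rw [← LinearMap.rTensor_comp_apply, hcomp]
      exact LinearMap.congr_fun (LinearMap.rTensor_id V _) y
    have hF : Function.Injective F := by
      rw [injective_iff_map_eq_zero]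
      intro z hz
      obtain ⟨z, rfl⟩ := Submodule.Quotient.mk_surjective _ z
      rw [Submodule.mapQ_apply, Submodule.Quotient.mk_eq_zero, ← ker_proj hg, RingHom.mem_ker] at hz
      rw [Submodule.Quotient.mk_eq_zero, ← ker_proj hg, RingHom.mem_ker]
      refine hκ _ f hf (fun r hr y => ?_) ?_
      · obtain ⟨y, rfl⟩ := Submodule.Quotient.mk_surjective _ y
        rw [← Submodule.Quotient.mk_smul, Submodule.Quotient.mk_eq_zero, Algebra.smul_def]
        exact I.mul_mem_right _ (hI (Ideal.mem_map_of_mem _ hr))
      · rw [map_zero, ← hz]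
        show _ = proj g I (algebraMap A' _ x * z)
        clear hz
        induction z using TensorProduct.induction_on with
        | zero => simp
        | add z w hz hw => rw [map_add, map_add, hz, hw, mul_add, map_add]
        | tmul a b =>
          rw [Algebra.TensorProduct.algebraMap_apply, Algebra.TensorProduct.tmul_mul_tmul, one_mul]
          show (f (Ideal.Quotient.mk _ a)) ⊗ₜ[A] g b = _
          show (Submodule.Quotient.mk (a * x) : A' ⧸ I) ⊗ₜ[A] g b =
            (Ideal.Quotient.mk I (x * a)) ⊗ₜ[A] g b
          rw [mul_comm]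
          rfl
    have hle : cut g I ≤ cut g I' := sup_le_sup_right (Ideal.map_mono hII') _
    have hexF : Function.Exact F (Submodule.factor hle) := fun z => by
      obtain ⟨z, rfl⟩ := Submodule.Quotient.mk_surjective _ z
      show (Submodule.Quotient.mk z : (A' ⊗[A] B) ⧸ cut g I') = 0 ↔ _
      rw [Submodule.Quotient.mk_eq_zero]
      have hI'eq : cut g I' = cut g I ⊔ Ideal.span {X} := by
        rw [cut, cut, Ideal.map_sup, Ideal.map_span, Set.image_singleton, sup_right_comm]
      constructor
      · intro h
        rw [hI'eq] at h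
        obtain ⟨i, hi, w, hw, rfl⟩ := Submodule.mem_sup.mp h
        obtain ⟨c, rfl⟩ := Ideal.mem_span_singleton'.mp hw
        refine ⟨Submodule.Quotient.mk c, ?_⟩
        rw [Submodule.mapQ_apply, Submodule.Quotient.eq, LinearMap.mulLeft_apply, mul_comm]
        simpa using hi
      · rintro ⟨c, hc⟩
        obtain ⟨c, rfl⟩ := Submodule.Quotient.mk_surjective _ c
        rw [Submodule.mapQ_apply, Submodule.Quotient.eq, LinearMap.mulLeft_apply] at hc
        rw [hI'eq]
        have h3 : X * c ∈ cut g I ⊔ Ideal.span {X} :=
          Submodule.mem_sup_right (Ideal.mem_span_singleton'.mpr ⟨c, mul_comm _ _⟩)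
        have h4 : X * c - z ∈ cut g I ⊔ Ideal.span {X} := Submodule.mem_sup_left hc
        simpa using (cut g I ⊔ Ideal.span {X}).sub_mem h3 h4
    rw [show lenAt n ((A' ⊗[A] B) ⧸ cut g I) = Module.length (Localization.AtPrime n.asIdeal)
      (LocalizedModule n.asIdeal.primeCompl ((A' ⊗[A] B) ⧸ cut g I)) from rfl,
      LenLib.length_localized_add n.asIdeal.primeCompl F _ hF (Submodule.factor_surjective hle) hexF,
      hlen, add_mul, one_mul, ← hI']

include hg in
/-- The weighted product of the norms over a fibre. -/
theorem prod_nrm_eq [Fintype (MaximalSpectrum (A' ⊗[A] B))]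
    (hm : Module.length A' (A' ⧸ (maximalIdeal A).map (algebraMap A A')) ≠ ⊤) (b : B) :
    ∏ n : MaximalSpectrum (A' ⊗[A] B),
        nrm A' n (residue _ (algebraMap (A' ⊗[A] B) (Localization.AtPrime n.asIdeal) ((1 : A') ⊗ₜ[A] b))) ^
          (lenAt n ((A' ⊗[A] B) ⧸
            (RingHom.ker g).map (Algebra.TensorProduct.includeRight : B →ₐ[A] A' ⊗[A] B))).toNat =
      ResidueField.map (algebraMap A A') (Algebra.norm (ResidueField A) (g b)) ^
        (Module.length A' (A' ⧸ (maximalIdeal A).map (algebraMap A A'))).toNat := by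
  let C := ResidueField A' ⊗[A] V
  let p : A' ⊗[A] B →ₐ[A'] C := proj g (maximalIdeal A')
  letI : Algebra (A' ⊗[A] B) C := p.toRingHom.toAlgebra
  haveI : IsScalarTower A' (A' ⊗[A] B) C := IsScalarTower.of_algebraMap_eq fun r => (p.commutes r).symm
  haveI : TensorProduct.CompatibleSMul A (ResidueField A) (ResidueField A') V := ⟨fun c m v => by
    obtain ⟨c, rfl⟩ := IsLocalRing.residue_surjective c
    rw [show residue A c • m = c • m from IsScalarTower.algebraMap_smul (ResidueField A) c m,
      show residue A c • v = c • v from IsScalarTower.algebraMap_smul (ResidueField A) c v,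
      TensorProduct.smul_tmul]⟩
  let E : C ≃ₗ[ResidueField A'] ResidueField A' ⊗[ResidueField A] V :=
    TensorProduct.equivOfCompatibleSMul (ResidueField A) A (ResidueField A') (ResidueField A') V
  haveI : Module.Finite (ResidueField A') C := Module.Finite.equiv E.symm
  haveI : IsArtinianRing C := isArtinian_of_tower (ResidueField A') inferInstance
  haveI : IsNoetherianRing C := inferInstance
  obtain ⟨hdet, hfin⟩ := det_smul_eq_prod_nrm (R := A') (B := A' ⊗[A] B) (C := C)
    (proj_surjective hg _) ((1 : A') ⊗ₜ[A] b) C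
    (isFiniteLength_iff_isNoetherian_isArtinian.mpr ⟨inferInstance, inferInstance⟩)
  have hd : LinearMap.det ((LinearMap.lsmul C C (algebraMap (A' ⊗[A] B) C ((1 : A') ⊗ₜ[A] b))).restrictScalars
      (ResidueField A')) = ResidueField.map (algebraMap A A') (Algebra.norm (ResidueField A) (g b)) := by
    rw [Algebra.norm_apply, show ResidueField.map (algebraMap A A')
      (LinearMap.det (Algebra.lmul (ResidueField A) V (g b))) =
      algebraMap (ResidueField A) (ResidueField A') (LinearMap.det (Algebra.lmul (ResidueField A) V (g b)))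
        from rfl, ← LinearMap.det_baseChange, ← LinearMap.det_conj _ E]
    congr 1
    refine TensorProduct.AlgebraTensorModule.ext fun y v => ?_
    show E (((1 : ResidueField A') ⊗ₜ[A] g b) * (y ⊗ₜ[A] v)) = y ⊗ₜ[ResidueField A] (g b * v)
    rw [Algebra.TensorProduct.tmul_mul_tmul, one_mul]
    rfl
  have hlen : ∀ n : MaximalSpectrum (A' ⊗[A] B),
      lenAt n ((A' ⊗[A] B) ⧸ (RingHom.ker g).map (Algebra.TensorProduct.includeRight : B →ₐ[A] A' ⊗[A] B)) =
        Module.length A' (A' ⧸ (maximalIdeal A).map (algebraMap A A')) * lenAt n C := fun n => by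
    rw [← cut_map_maximal g, lenAt_cut hg n _ le_rfl hm]
    congr 1
    refine length_localized_congr n.asIdeal.primeCompl (Submodule.quotEquivOfEq _ _ ?_ ≪≫ₗ
      LinearMap.quotKerEquivOfSurjective (Algebra.linearMap (A' ⊗[A] B) C) (proj_surjective hg _))
    exact (ker_proj hg (maximalIdeal A')).symm
  rw [← hd, hdet, ← Finset.prod_pow]
  refine Finset.prod_congr rfl fun n _ => ?_
  rw [hlen, ENat.toNat_mul, mul_comm, pow_mul]

end baseChange

end Groth.Agent.CycGlue.Tame
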