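import Groth.Agent.CycGlue.TameFlat
import Mathlib.RingTheory.RingHom.Flat
import Mathlib.RingTheory.LocalRing.Quotient

/-!
# The tame symbol under flat local maps
-/

set_option autoImplicit false
set_option linter.style.haveILetI false
set_option linter.unusedSectionVars false

universe u

open IsLocalRing
open scoped TensorProduct nonZeroDivisors

namespace Groth.Agent.CycGlue.Tame

open Groth.Agent.LenLib

/-- Nonzerodivisors stay so along flat maps. -/
theorem nzd_of_flat {R S : Type u} [CommRing R] [CommRing S] [Algebra R S] [Module.Flat R S] {x : R}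
    (hx : x ∈ nonZeroDivisors R) : algebraMap R S x ∈ nonZeroDivisors S := by
  rw [mem_nonZeroDivisors_iff_right]
  intro z hz
  have hinj : Function.Injective (LinearMap.lTensor S (LinearMap.lsmul R R x)) :=
    Module.Flat.lTensor_preserves_injective_linearMap _ fun a b h =>
      (mul_cancel_left_mem_nonZeroDivisors hx).mp h
  have h0 : z ⊗ₜ[R] (1 : R) = 0 := hinj (by
    rw [LinearMap.lTensor_tmul, map_zero, LinearMap.lsmul_apply, TensorProduct.tmul_smul,
      TensorProduct.smul_tmul', Algebra.smul_def, mul_comm, hz, TensorProduct.zero_tmul])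
  simpa using congrArg (TensorProduct.rid R S) h0

variable {A : Type u} [CommRing A] {A' : Type u} [CommRing A'] [Algebra A A'] [Module.Flat A A']
  {B : Type u} [CommRing B] [Algebra A B]

/-- The inclusion on the right is flat. -/
theorem includeRight_flat :
    (Algebra.TensorProduct.includeRight : B →ₐ[A] A' ⊗[A] B).toRingHom.Flat := by
  have h1 : (algebraMap B (B ⊗[A] A')).Flat := by
    rw [RingHom.flat_algebraMap_iff]
    infer_instance
  have h2 := h1.comp (RingHom.Flat.of_bijective
    (f := (Algebra.TensorProduct.comm A B A').toRingEquiv.toRingHom)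
    (Algebra.TensorProduct.comm A B A').toRingEquiv.bijective)
  convert h2 using 1
  exact RingHom.ext fun b => rfl

variable [IsLocalRing A] [IsLocalRing A'] [IsLocalHom (algebraMap A A')]

/-- The base change of a finite extension is one. -/
theorem isFinExt_baseChange [IsNoetherianRing A'] (hB : CycAlg.IsFinExt A B (maximalIdeal A))
    (hm : Module.length A' (A' ⧸ (maximalIdeal A).map (algebraMap A A')) ≠ ⊤) :
    CycAlg.IsFinExt A' (A' ⊗[A] B) (maximalIdeal A') := by
  obtain ⟨hinj, hfin, N, hN⟩ := hB
  haveI := hfin
  refine ⟨?_, inferInstance, ?_⟩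
  · exact Algebra.TensorProduct.includeLeft_injective (S := A') hinj
  haveI : IsArtinianRing (A' ⧸ (maximalIdeal A).map (algebraMap A A')) :=
    isArtinian_of_tower A'
      (isFiniteLength_iff_isNoetherian_isArtinian.mp (Module.length_ne_top_iff.mp hm)).2
  obtain ⟨K, hK⟩ :=
    IsLocalRing.exists_maximalIdeal_pow_le_of_isArtinianRing_quotient ((maximalIdeal A).map (algebraMap A A'))
  refine ⟨K * N, fun r hr z => ?_⟩
  let S : Ideal A' :=
    { carrier := {r | ∀ z : A' ⊗[A] B, r • z ∈ (algebraMap A' (A' ⊗[A] B)).range}
      add_mem' := fun {a b} ha hb z => by rw [add_smul]; exact add_mem (ha z) (hb z)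
      zero_mem' := fun z => by rw [zero_smul]; exact zero_mem _
      smul_mem' := fun c a ha z => by rw [smul_eq_mul, mul_comm, mul_smul]; exact ha (c • z) }
  refine (?_ : (maximalIdeal A ^ N).map (algebraMap A A') ≤ S) ?_ z
  · rw [Ideal.map_le_iff_le_comap]
    intro x hx z
    induction z using TensorProduct.induction_on with
    | zero => rw [smul_zero]; exact zero_mem _
    | add a b ha hb => rw [smul_add]; exact add_mem ha hb
    | tmul a b =>
      obtain ⟨c, hc⟩ := hN x hx b
      refine ⟨c • a, ?_⟩
      rw [algebraMap_smul, ← TensorProduct.tmul_smul, ← hc, Algebra.algebraMap_eq_smul_one c,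
        ← TensorProduct.smul_tmul]
      rfl
  · rw [Ideal.map_pow]
    exact Ideal.pow_right_mono hK N (by rwa [← pow_mul])

variable [IsNoetherianRing A] [IsNoetherianRing A']

/-- The tame symbol of a base change. -/
theorem tameSymbol_flat (hA : Ring.KrullDimLE 1 A) (hA' : Ring.KrullDimLE 1 A') {a₁ a₂ : A}
    (h₁ : a₁ ∈ nonZeroDivisors A) (h₂ : a₂ ∈ nonZeroDivisors A)
    (hm : Module.length A' (A' ⧸ (maximalIdeal A).map (algebraMap A A')) ≠ ⊤) :
    ResidueField.map (algebraMap A A') (CycAlg.tameSymbol A a₁ a₂) ^
        (Module.length A' (A' ⧸ (maximalIdeal A).map (algebraMap A A'))).toNat =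
      CycAlg.tameSymbol A' (algebraMap A A' a₁) (algebraMap A A' a₂) := by
  classical
  have hne := nonempty_tameData hA h₁ h₂
  rw [CycAlg.tameSymbol, dif_pos hne]
  generalize Classical.choice hne = D
  haveI := D.isFinExt.2.1
  let B := D.B
  let B' := A' ⊗[A] B
  haveI : Module.Finite A' B' := inferInstance
  let ι : B →ₐ[A] B' := Algebra.TensorProduct.includeRight
  have hF := isFinExt_baseChange (A' := A') D.isFinExt hm
  haveI : Algebra.IsIntegral A B := Algebra.IsIntegral.of_finite A B
  haveI : Algebra.IsIntegral A' B' := Algebra.IsIntegral.of_finite A' B'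
  have hιA : ∀ a : A, ι (algebraMap A B a) = algebraMap A' B' (algebraMap A A' a) := fun a => by
    rw [ι.commutes, IsScalarTower.algebraMap_apply A A' B']
  let qOf : MaximalSpectrum B' → MaximalSpectrum B := fun n =>
    ⟨n.asIdeal.comap ι.toRingHom, by
      haveI := n.isMaximal
      refine Ideal.isMaximal_of_isIntegral_of_isMaximal_comap (R := A) _ ?_
      have h : (n.asIdeal.comap ι.toRingHom).comap (algebraMap A B) = maximalIdeal A := by
        rw [Ideal.comap_comap]
        ext a
        have hn := IsLocalRing.eq_maximalIdeal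
          (Ideal.isMaximal_comap_of_isIntegral_of_isMaximal (R := A') n.asIdeal)
        show ι (algebraMap A B a) ∈ n.asIdeal ↔ _
        rw [hιA, ← Ideal.mem_comap, hn, mem_maximalIdeal, mem_maximalIdeal, mem_nonunits_iff,
          mem_nonunits_iff, isUnit_map_iff (algebraMap A A')]
      rw [h]
      exact maximalIdeal.isMaximal A⟩
  let f : ∀ n : MaximalSpectrum B', Localization.AtPrime (qOf n).asIdeal →+* Localization.AtPrime n.asIdeal :=
    fun n => Localization.localRingHom (qOf n).asIdeal n.asIdeal ι.toRingHom rfl
  have hf : ∀ n, (f n).Flat := fun n =>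
    RingHom.Flat.localRingHom includeRight_flat n.asIdeal (qOf n).asIdeal rfl
  have hfa : ∀ n (a : A), f n (algebraMap A _ a) = algebraMap A' _ (algebraMap A A' a) := fun n a => by
    rw [IsScalarTower.algebraMap_apply A B (Localization.AtPrime (qOf n).asIdeal)]
    show Localization.localRingHom _ _ _ _ (algebraMap B _ _) = _
    rw [Localization.localRingHom_to_map]
    show algebraMap B' _ (ι (algebraMap A B a)) = _
    rw [hιA, ← IsScalarTower.algebraMap_apply]
  let D' : CycAlg.TameData A' (algebraMap A A' a₁) (algebraMap A A' a₂) :=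
    { B := B'
      isFinExt := hF
      isLocalHom := fun n => isLocalHom_localization n
      π := fun n => f n (D.π (qOf n))
      π_mem := fun n => by
        letI := (f n).toAlgebra
        haveI : Module.Flat (Localization.AtPrime (qOf n).asIdeal) (Localization.AtPrime n.asIdeal) := hf n
        exact nzd_of_flat (D.π_mem (qOf n))
      u₁ := fun n => Units.map (f n).toMonoidHom (D.u₁ (qOf n))
      u₂ := fun n => Units.map (f n).toMonoidHom (D.u₂ (qOf n))
      e₁ := fun n => D.e₁ (qOf n)
      e₂ := fun n => D.e₂ (qOf n)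
      fac₁ := fun n => by rw [← hfa, D.fac₁, map_mul, map_pow]; rfl
      fac₂ := fun n => by rw [← hfa, D.fac₂, map_mul, map_pow]; rfl }
  have h₁' : algebraMap A A' a₁ ∈ nonZeroDivisors A' := nzd_of_flat h₁
  have h₂' : algebraMap A A' a₂ ∈ nonZeroDivisors A' := nzd_of_flat h₂
  have hne' : Nonempty (CycAlg.TameData A' (algebraMap A A' a₁) (algebraMap A A' a₂)) := ⟨D'⟩
  rw [CycAlg.tameSymbol, dif_pos hne', value_eq_value hA' h₁' h₂' (Classical.choice hne') D']
  haveI := finite_maximalSpectrum A B
  haveI := finite_maximalSpectrum A' B'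
  let _ : Fintype (MaximalSpectrum B) := Fintype.ofFinite _
  let _ : Fintype (MaximalSpectrum B') := Fintype.ofFinite _
  -- residues of the units of the data
  have hb : ∀ q : MaximalSpectrum B, ∃ b : B,
      algebraMap B (ResidueField (Localization.AtPrime q.asIdeal)) b =
        (-1 : ResidueField (Localization.AtPrime q.asIdeal)) ^ (D.e₁ q * D.e₂ q) *
        residue (Localization.AtPrime q.asIdeal) (D.u₁ q : Localization.AtPrime q.asIdeal) ^ D.e₂ q *
        (residue (Localization.AtPrime q.asIdeal) (D.u₂ q : Localization.AtPrime q.asIdeal) ^ D.e₁ q)⁻¹ := by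
    intro q
    obtain ⟨z, hz⟩ := (Ideal.bijective_algebraMap_quotient_residueField q.asIdeal).2 _
    obtain ⟨b, rfl⟩ := Ideal.Quotient.mk_surjective z
    exact ⟨b, hz⟩
  choose b hb using hb
  let J : MaximalSpectrum B → Ideal B' := fun q => q.asIdeal.map ι
  let k : MaximalSpectrum B → ℕ := fun q => (Ring.ord (Localization.AtPrime q.asIdeal) (D.π q)).toNat
  let x : MaximalSpectrum B' → MaximalSpectrum B → ResidueField A' := fun n q =>
    nrm A' n (residue _ (algebraMap B' (Localization.AtPrime n.asIdeal) (ι (b q)))) ^
      ((lenAt n (B' ⧸ J q)).toNat * k q)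
  have hzero : ∀ n q, qOf n ≠ q → lenAt n (B' ⧸ J q) = 0 := by
    intro n q hnq
    obtain ⟨y, hy, hyn⟩ : ∃ y ∈ q.asIdeal, ι y ∉ n.asIdeal := by
      by_contra hcon
      push_neg at hcon
      exact hnq (MaximalSpectrum.ext (q.isMaximal.eq_of_le (qOf n).isMaximal.ne_top hcon).symm)
    show Module.length _ _ = 0
    rw [length_localized_quotient, Module.length_eq_zero_iff, Submodule.Quotient.subsingleton_iff]
    exact Ideal.eq_top_of_isUnit_mem _ (Ideal.mem_map_of_mem _ (Ideal.mem_map_of_mem ι hy))
      (IsLocalization.map_units _ (⟨ι y, hyn⟩ : n.asIdeal.primeCompl))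
  have hn : ∀ n : MaximalSpectrum B', D'.localFactor n = x n (qOf n) := by
    intro n
    set q := qOf n with hq
    haveI := D.isLocalHom q
    haveI : IsLocalHom (f n) := Localization.isLocalHom_localRingHom _ _ _ rfl
    have hord : Ring.ord (Localization.AtPrime n.asIdeal) (f n (D.π q)) =
        Ring.ord (Localization.AtPrime q.asIdeal) (D.π q) * lenAt n (B' ⧸ J q) := by
      letI := (f n).toAlgebra
      haveI : Module.Flat (Localization.AtPrime q.asIdeal) (Localization.AtPrime n.asIdeal) := hf n
      haveI : IsLocalHom (algebraMap (Localization.AtPrime q.asIdeal) (Localization.AtPrime n.asIdeal)) :=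
        ‹IsLocalHom (f n)›
      rw [Ring.ord, Ring.ord,
        show lenAt n (B' ⧸ J q) = Module.length (Localization.AtPrime n.asIdeal)
          (LocalizedModule n.asIdeal.primeCompl (B' ⧸ J q)) from rfl, length_localized_quotient]
      have h3 : (J q).map (algebraMap B' (Localization.AtPrime n.asIdeal)) =
          (maximalIdeal (Localization.AtPrime q.asIdeal)).map (f n) := by
        show (Ideal.map ι.toRingHom q.asIdeal).map _ = _
        rw [Ideal.map_map, ← Localization.AtPrime.map_eq_maximalIdeal, Ideal.map_map]
        congr 1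
        refine RingHom.ext fun y => ?_
        exact (Localization.localRingHom_to_map _ _ _ rfl y).symm
      rw [h3]
      have h4 := IsLocalRing.length_baseChange (Localization.AtPrime q.asIdeal)
        (Localization.AtPrime n.asIdeal)
        (Localization.AtPrime q.asIdeal ⧸ Ideal.span {D.π q})
      rw [← (Algebra.TensorProduct.quotIdealMapEquivTensorQuot (Localization.AtPrime n.asIdeal)
        (Ideal.span {D.π q})).toLinearEquiv.length_eq] at h4
      refine Eq.trans ?_ h4
      rw [Ideal.map_span, Set.image_singleton]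
      rfl
    have hres : (-1 : ResidueField (Localization.AtPrime n.asIdeal)) ^ (D.e₁ q * D.e₂ q) *
        residue _ (f n (D.u₁ q : Localization.AtPrime q.asIdeal)) ^ D.e₂ q *
        (residue _ (f n (D.u₂ q : Localization.AtPrime q.asIdeal)) ^ D.e₁ q)⁻¹ =
        residue _ (algebraMap B' (Localization.AtPrime n.asIdeal) (ι (b q))) := by
      have h5 : residue _ (algebraMap B' (Localization.AtPrime n.asIdeal) (ι (b q))) =
          ResidueField.map (f n) (residue _ (algebraMap B (Localization.AtPrime q.asIdeal) (b q))) := by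
        rw [ResidueField.map_residue]
        congr 1
        exact (Localization.localRingHom_to_map _ _ _ rfl _).symm
      rw [h5, show residue _ (algebraMap B (Localization.AtPrime q.asIdeal) (b q)) =
        algebraMap B (ResidueField (Localization.AtPrime q.asIdeal)) (b q) from rfl, hb q, map_mul, map_mul,
        map_pow, map_neg, map_one, map_pow, map_inv₀, map_pow, ResidueField.map_residue,
        ResidueField.map_residue]
    haveI := isLocalHom_localization (A := A') n
    show (Algebra.norm (ResidueField A') _) ^ (Ring.ord _ (f n (D.π q))).toNat = _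
    rw [hord, ENat.toNat_mul, Nat.mul_comm (Ring.ord (Localization.AtPrime q.asIdeal) (D.π q)).toNat]
    show nrm A' n _ ^ _ = nrm A' n _ ^ _
    rw [← hres]
    rfl
  have hq : ∀ q : MaximalSpectrum B, (∏ n, x n q) =
      ResidueField.map (algebraMap A A') (D.localFactor q) ^
        (Module.length A' (A' ⧸ (maximalIdeal A).map (algebraMap A A'))).toNat := by
    intro q
    haveI := D.isLocalHom q
    haveI := finite_residueField (A := A) q
    let g : B →ₐ[A] ResidueField (Localization.AtPrime q.asIdeal) := IsScalarTower.toAlgHom A B _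
    have hg : Function.Surjective g := fun z => by
      obtain ⟨y, hy⟩ := (Ideal.bijective_algebraMap_quotient_residueField q.asIdeal).2 z
      obtain ⟨y, rfl⟩ := Ideal.Quotient.mk_surjective y
      exact ⟨y, hy⟩
    have hker : RingHom.ker g = q.asIdeal := Ideal.ker_algebraMap_residueField q.asIdeal
    have h6 := prod_nrm_eq hg hm (b q)
    rw [hker] at h6
    show ∏ n, _ ^ (_ * k q) = _
    simp only [pow_mul, Finset.prod_pow]
    refine (congrArg (· ^ k q) h6).trans ?_
    rw [← pow_mul, mul_comm, pow_mul, ← map_pow]
    congr 2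
    show Algebra.norm (ResidueField A) (algebraMap B _ (b q)) ^ k q = _
    rw [hb q]
    rfl
  rw [CycAlg.TameData.value, CycAlg.TameData.value, finprod_eq_prod_of_fintype]
  show _ = ∏ᶠ n : MaximalSpectrum B', D'.localFactor n
  rw [finprod_eq_prod_of_fintype, map_prod, ← Finset.prod_pow, ← Finset.prod_congr rfl fun q _ => hq q,
    Finset.prod_comm]
  refine Finset.prod_congr rfl fun n _ => ?_
  rw [hn n, Finset.prod_eq_single (qOf n) (fun q _ hne => ?_) fun h => absurd (Finset.mem_univ _) h]
  show _ ^ ((lenAt n (B' ⧸ J q)).toNat * k q) = 1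
  rw [hzero n q (Ne.symm hne), ENat.toNat_zero, zero_mul, pow_zero]

end Groth.Agent.CycGlue.Tame
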